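import Cfsg.Agent.KFacts.SLRow.Psl
import Cfsg.Agent.KFacts.RgdOver
import Cfsg.Agent.KFacts.SLRow.OPlus
import Cfsg.Agent.KFacts.ChevTwo
import Cfsg.Agent.KFacts.ChevTwoSys
import Cfsg.Agent.KFacts.SLRow.TypeA
import Cfsg.Agent.KFacts.RgdOwn_m3
import Cfsg.Agent.KFacts.SLRow.OmegaPlus_m3
import Cfsg.Agent.KFacts.ChevTwoSysInst
import Cfsg.Agent.KFacts.ChevTwoInstE
import Cfsg.Agent.OddHalf.D7.Cases
import Cfsg.Agent.Prune
set_option linter.all false
prune_inst 0x7ffffffcffbfeddfffff7e7fffffdffcbff3ffffeffffd73ffe8f5ff0fdf7b98afe5fb8feff070fe1fd7e23c10b87813fb7eeeffe36fde7ffffdfff45fffee4fe5f7bd0971df9cbe1fbe0fffe3f07fce7f3fffffffffffffffffffffffffffbeffbfffffffff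
open scoped Cfsg.Agent.FastGrp

-- part: KFacts/SLRow/SysA
section
/-!
# `PSL_{n+1}(F)`, characteristic two: `ChevTwo.Sys` and coordinates

`sys_SL`, `sys_PSL`; `coords`, `coroots`, `fullChar` for `rgd_psl` via `RgdSys`.
-/

set_option autoImplicit false
set_option linter.unusedSectionVars false

namespace Cfsg.Agent.KFacts.SLRow.SysA

open Matrix CoxeterSystem Cfsg.Agent.ChevalleyStructure.CoxeterGeom Cfsg.Agent.Tits.Roots Cfsg.Agent.Tits.Core
  Cfsg.Agent.Nodes.Reps Cfsg.Agent.Nodes.BNOf Cfsg.Agent.Nodes.RGDLib Cfsg.Agent.Nodes.RootsA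
  Cfsg.Agent.Nodes.RGDTypeA Cfsg.Agent.KFacts.ChevTwo Cfsg.Agent.KFacts.SLRow.TypeA Cfsg.Agent.KFacts.SLRow.Def
  Cfsg.Agent.KFacts.SLRow.Psl
open Cfsg.Agent.LieRecognition.BNCox (cA cA_apply)
open Cfsg.Agent.TitsThree.KSideA (tv tv_of_ne tv_add tv_zero tv_neg tv_comm tv_commute diag2n_eq)

variable {n : ℕ} {F : Type*} [Field F]
  {W : Type*} [Group W] (cs : CoxeterSystem (cA n) W) {A : Fin n → Fin n → ℤ} (h : IsCartan (cA n) A)

/-- The character of a diagonal matrix. -/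
theorem exists_chi {d : _root_.Matrix.SpecialLinearGroup (Fin (n + 1)) F} (hd : d ∈ T (Fin (n + 1)) F) :
    ∃ χ : (Fin n → ℤ) →+ Additive Fˣ, ∀ x, IsRoot cs h x → ∀ u : F, d * eA x u * d⁻¹ = eA x (((χ x).toMul : Fˣ) * u) := by
  have hm := mem_T.1 hd
  have h0 : ∀ a, d.1 a a ≠ 0 := fun a => hm.apply_ne_zero a
  obtain ⟨v, hv⟩ : ∃ v : Fin (n + 1) → Fˣ, ∀ a, (v a : F) = d.1 a a := ⟨fun a => Units.mk0 _ (h0 a), fun _ => rfl⟩
  let χ : (Fin n → ℤ) →+ Additive Fˣ :=
    { toFun := fun x => ∑ k, x k • Additive.ofMul (v k.castSucc / v k.succ)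
      map_zero' := Finset.sum_eq_zero fun k _ => by rw [Pi.zero_apply, zero_smul]
      map_add' := fun x y => by
        rw [← Finset.sum_add_distrib]
        exact Finset.sum_congr rfl fun k _ => by rw [Pi.add_apply]; exact add_zsmul _ _ _ }
  have hsr : ∀ k : Fin n, χ (sr k) = Additive.ofMul (v k.castSucc / v k.succ) := by
    intro k
    show ∑ j, (sr k : Fin n → ℤ) j • _ = _
    rw [Finset.sum_eq_single k]
    · rw [sr_self, one_smul]
    · intro j _ hj; rw [sr_ne hj, zero_smul]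
    · intro hk; exact absurd (Finset.mem_univ k) hk
  have key0 : ∀ (m : ℕ) (hm : m < n + 1), χ (rtA 0 ⟨m, hm⟩) = Additive.ofMul (v 0 / v ⟨m, hm⟩) := by
    intro m
    induction m with
    | zero => intro hm; rw [show (⟨0, hm⟩ : Fin (n + 1)) = 0 from rfl, rtA_self, map_zero, div_self']; rfl
    | succ m ih =>
      intro hm
      have hm' : m < n := by omega
      have e1 : rtA (0 : Fin (n + 1)) ⟨m + 1, hm⟩ = rtA 0 ⟨m, by omega⟩ + sr ⟨m, hm'⟩ := by
        rw [← rtA_sr]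
        exact (rtA_add _ _ _).symm
      rw [e1, map_add, ih, hsr, ← ofMul_mul]
      congr 1
      show v 0 / v ⟨m, _⟩ * (v ⟨m, _⟩ / v ⟨m + 1, _⟩) = _
      rw [div_mul_div_cancel]
  have key : ∀ a b : Fin (n + 1), χ (rtA a b) = Additive.ofMul (v a / v b) := by
    intro a b
    have e1 : rtA a b = rtA 0 b - rtA 0 a := by
      rw [sub_eq_add_neg, rtA_neg, add_comm, rtA_add]
    rw [e1, map_sub, key0 b.1 b.2, key0 a.1 a.2, ← ofMul_div]
    congr 1
    show v 0 / v b / (v 0 / v a) = v a / v b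
    rw [div_div_div_cancel_left]
  refine ⟨χ, fun x hx u => ?_⟩
  obtain ⟨a, b, hab, rfl⟩ := exists_of_isRoot cs h hx
  rw [eA_rtA hab, eA_rtA hab, hm.conj_tv hab, key, toMul_ofMul, Units.val_div_eq_div_val, hv, hv]
  simp only [Equiv.Perm.coe_one, id]
  congr 1
  rw [div_eq_mul_inv]; ring

theorem sys_PSL [Finite W] [Finite F] [CharP F 2] [Fact (Nat.Prime 2)] :
    Sys (rgd_psl (F := F) (p := 2) cs h) (fun x t => pr n F (eA x t)) where
  data := data_PSL (CharTwo.add_self_eq_zero) cs h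
  mem_X x hx g := by
    constructor
    · rintro ⟨y, hy, rfl⟩
      obtain ⟨t, ht⟩ := (mem_X_iff cs h hx y).1 hy
      exact ⟨t, by rw [ht]⟩
    · rintro ⟨t, rfl⟩
      exact ⟨_, (mem_X_iff cs h hx _).2 ⟨t, rfl⟩, rfl⟩
  n_eq i := by
    have h1 : nel (fun x t => pr n F (eA x t)) (sr i) = pr n F (nel (eA (F := F)) (sr i)) := by
      rw [nel_def, nel_def, map_mul, map_mul]
    rw [h1, nel, nc_eA CharTwo.add_self_eq_zero]
    rfl
  chi t ht := by
    obtain ⟨d, hd, rfl⟩ := ht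
    obtain ⟨χ, hχ⟩ := exists_chi cs h hd
    refine ⟨χ, fun x hx u => ?_⟩
    rw [← map_mul, ← map_inv, ← map_mul, hχ x hx]

end Cfsg.Agent.KFacts.SLRow.SysA
end

-- part: KFacts/SLRow/DSys
section
-- merged: Cfsg.Agent.KFacts.SLRow.DData
section

/-!
# `ChevTwo.Data` of type `D` (K-facts for S1765, D7)

* `nX_sr`, `hX_sr` : the action of `n_i(c)`, `h_i(c)` on the Witt frame, characteristic two;
* `data_D` : `ChevTwo.Data` for the root elements `TypeD.eD` (helper827) in the isometry group.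
-/

set_option autoImplicit false
set_option linter.unusedSectionVars false
set_option linter.unusedSimpArgs false

namespace Cfsg.Agent.KFacts.SLRow.DData

open CoxeterSystem Cfsg.Agent.ChevalleyStructure.CoxeterGeom Cfsg.Agent.Tits.Roots Cfsg.Agent.Tits.Core
  Cfsg.Agent.Nodes.Reps Cfsg.Agent.Nodes.BNOf Cfsg.Agent.Nodes.RGDLib Cfsg.Agent.KFacts.SLRow.Def
  Cfsg.Agent.Nodes.Coroot Cfsg.Agent.KFacts.ChevTwo
open Cfsg.Agent.KFacts.SLRow.TypeD (Hyp eD X_eq_one)
open Cfsg.Agent.Nodes.TypeC (wt ng ng_ng ng_fst wt_ng wt_apply)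
open Cfsg.Agent.Nodes.TypeD
open Cfsg.Agent.Nodes.WittRoot (Amb XG mem_XG)
open Cfsg.Agent.Nodes.WittRGDD (rf sg_eq_rf ee_neg_sr)
open Cfsg.Agent.Nodes.WittRGD (eq_or_ng)
open Cfsg.Agent.TitsThree Cfsg.Agent.TitsThree.Siegel
  Cfsg.Agent.TitsThree.WittFrame Cfsg.Agent.TitsThree.WittWeyl
open scoped commutatorElement

variable {F V : Type*} [Field F] [AddCommGroup V] [Module F V] {H : HForm F V}

/-- An orthogonal form in characteristic two. -/
structure Orth2 (H : HForm F V) : Prop where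
  σ : ∀ c, H.σ c = c
  ε : H.ε = 1
  two : ∀ t : F, t + t = 0

theorem orth2_of_hyp {n : ℕ} {Fr : Frame H (Fin (n + 2))} (hH : Hyp Fr) : Orth2 H where
  σ := hH.sig
  ε := hH.eps
  two t := by rw [← two_mul, hH.two, zero_mul]

theorem Orth2.neg {H : HForm F V} (ho : Orth2 H) (t : F) : -t = t := neg_eq_of_add_eq_zero_left (ho.two t)

section Frame

variable {k : ℕ} (Fr : Frame H (Fin k)) (ho : Orth2 H)

include ho

theorem η_eq (x : Fin k × Bool) : Fr.η x = 1 := by
  unfold Frame.η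
  rw [ho.ε, ite_self]

theorem X_swap' {a b : Fin k × Bool} (hab : a.1 ≠ b.1) (t : F) : Fr.X a b t = Fr.X b a t := by
  rw [Fr.X_swap hab, ho.ε, η_eq Fr ho, η_eq Fr ho, ho.σ, inv_one, one_mul, one_mul, one_mul, ho.neg]

theorem conj_X' {g : V ≃ₗ[F] V} (hg : H.IsIso g) {x y x' y' : Fin k × Bool} (h : x.1 ≠ y.1)
    (h' : x'.1 ≠ y'.1) {l m : F} (hx : g (Fr.b x) = l • Fr.b x') (hy : g (Fr.b y) = m • Fr.b y')
    (t : F) : g * Fr.X x y t * g⁻¹ = Fr.X x' y' (l * m * t) := by
  rw [conj_X Fr hg h h' hx hy, ho.σ, η_eq Fr ho, η_eq Fr ho, inv_one, mul_one, mul_one]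

/-- The scalars of `nX x y c`. -/
def cf (x y : Fin k × Bool) (c : F) (z : Fin k × Bool) : F :=
  if z = x then c⁻¹ else if z = ng y then c else if z = ng x then c else if z = y then c⁻¹ else 1

end Frame

variable {n : ℕ} (Fr : Frame H (Fin (n + 2))) (ho : Orth2 H)

include ho in
theorem nX_b {x y : Fin (n + 2) × Bool} (h : x.1 ≠ y.1) {c : F} (hc : c ≠ 0) (z : Fin (n + 2) × Bool) :
    nX Fr x y c (Fr.b z) = cf x y c z • Fr.b (rf x y z) := by
  unfold rf cf
  by_cases h1 : z = x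
  · rw [if_pos h1, if_pos h1, h1, nX_apply_self Fr h hc, ← neg_smul, ho.neg]
    rfl
  by_cases h2 : z = ng y
  · rw [if_neg h1, if_pos h2, if_neg h1, if_pos h2, h2]
    exact nX_apply_neg Fr h hc
  by_cases h4 : z = ng x
  · rw [if_neg h1, if_neg h2, if_pos h4, if_neg h1, if_neg h2, if_pos h4, h4]
    have := nX_apply_neg' Fr h hc
    rw [ho.ε, η_eq Fr ho, η_eq Fr ho, ho.σ, inv_one, one_mul, one_mul, one_mul, ← neg_smul, ho.neg] at this
    exact this
  by_cases h5 : z = y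
  · rw [if_neg h1, if_neg h2, if_neg h4, if_pos h5, if_neg h1, if_neg h2, if_neg h4, if_pos h5, h5]
    have := nX_apply_self' Fr h hc
    rw [ho.ε, η_eq Fr ho, η_eq Fr ho, ho.σ, inv_one, one_mul, one_mul, one_mul] at this
    exact this
  rw [if_neg h1, if_neg h2, if_neg h4, if_neg h5, if_neg h1, if_neg h2, if_neg h4, if_neg h5, one_smul]
  apply nX_apply_of_ne Fr h
  · intro h6
    rcases eq_or_ng h6 with h7 | h7
    · exact h1 h7
    · exact h4 h7
  · intro h6
    rcases eq_or_ng h6 with h7 | h7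
    · exact h5 h7
    · exact h2 h7

theorem Cf_wt (i : Fin (n + 2)) (z : Fin (n + 2) × Bool) : Cf i (wt z) =
    if z = (i, true) then 1 else if z = ng (nx i) then -1 else if z = ng (i, true) then -1 else
      if z = nx i then 1 else 0 := by
  obtain ⟨j, s⟩ := z
  have := i.2
  unfold Cf nx pd ng
  simp only [wt_apply]
  cases s <;> split_ifs <;> simp_all [Fin.ext_iff]

theorem cf_eq (i : Fin (n + 2)) (c : F) (z : Fin (n + 2) × Bool) :
    cf (i, true) (nx i) c z = c ^ (-Cf i (wt z)) := by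
  rw [Cf_wt]
  unfold cf
  split_ifs <;> simp

theorem Cf_sg (i : Fin (n + 2)) (z : Fin (n + 2) × Bool) : Cf i (wt (sg i z)) = -Cf i (wt z) := by
  have h1 : Cf i (bt i) = 2 := by
    have := A_apply (n := n) i i
    rw [if_pos rfl] at this
    exact this
  rw [wt_sg, sub_eq_add_neg, ← neg_smul, Cf_add, Cf_smul, h1]
  ring

include ho in
theorem nX_sr (i : Fin (n + 2)) {c : F} (hc : c ≠ 0) (z : Fin (n + 2) × Bool) :
    nX Fr (i, true) (nx i) c (Fr.b z) = c ^ (-Cf i (wt z)) • Fr.b (sg i z) := by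
  rw [nX_b Fr ho (ok_nx i) hc, cf_eq, sg_eq_rf]

include ho in
theorem hX_sr (i : Fin (n + 2)) {c : F} (hc : c ≠ 0) (z : Fin (n + 2) × Bool) :
    (nX Fr (i, true) (nx i) c * nX Fr (i, true) (nx i) 1) (Fr.b z) = c ^ Cf i (wt z) • Fr.b z := by
  rw [mul_apply', nX_sr Fr ho i one_ne_zero, one_zpow, one_smul, nX_sr Fr ho i hc, Cf_sg, _root_.neg_neg, sg_sg]

/-! ### The root elements -/

variable {Fr} in
theorem nc_eD (hH : Hyp Fr) (i : Fin (n + 2)) (c : F) : nc (eD Fr) (sr i) c = nX Fr (i, true) (nx i) c := by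
  rw [nc_def, TypeD.eD_eq hH (ok_nx i) (ee_sr i), TypeD.eD_eq hH (ok_nx i).ng (ee_neg_sr i),
    X_swap' Fr (orth2_of_hyp hH) (ok_nx i).ng, nX, (orth2_of_hyp hH).neg]
  rfl

variable {G : Type*} [Group G] (cs : CoxeterSystem (M n) G)

include ho in
theorem comm_p (h0 : ∀ p : Fr.Adm, p = 1) {p q : Fin (n + 2) × Bool} (hpq : Ok p q) (t u : F) :
    Commute (Fr.X p (ng q) t) (Fr.X p q u) := by
  have e1 := Fr.X_mul_X_same hpq u t
  rw [h0 (Frame.Adm.tr _), Fr.Z_one, one_mul] at e1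
  exact e1.symm

theorem bracket {x y z : Fin (n + 2) × Bool} (hxy : x.1 ≠ y.1) (hyz : y.1 ≠ z.1) (hxz : x.1 ≠ z.1) (s t : F) :
    ⁅Fr.X x y s, Fr.X (ng y) z t⁆ = Fr.X x z (s * t) := by
  have e1 := Fr.conj_X_X hxy hyz hxz s t
  rw [commutatorElement_def]
  have e3 : Fr.X x y s * Fr.X (ng y) z t * (Fr.X x y s)⁻¹ = _ := e1
  rw [e3]
  exact mul_inv_cancel_right _ _


/-- the values of the coroots on the weights -/
theorem Cf_cases (i : Fin (n + 2)) (z : Fin (n + 2) × Bool) : Cf i (wt z) = 1 ∧ (z = (i, true) ∨ z = nx i) ∨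
    Cf i (wt z) = -1 ∧ (z = ng (i, true) ∨ z = ng (nx i)) ∨ Cf i (wt z) = 0 ∧ z.1 ≠ i ∧ z.1 ≠ (nx i).1 := by
  rw [Cf_wt]
  split_ifs with h1 h2 h3 h4
  · exact Or.inl ⟨rfl, Or.inl h1⟩
  · exact Or.inr (Or.inl ⟨rfl, Or.inr h2⟩)
  · exact Or.inr (Or.inl ⟨rfl, Or.inl h3⟩)
  · exact Or.inl ⟨rfl, Or.inr h4⟩
  · refine Or.inr (Or.inr ⟨rfl, ?_, ?_⟩)
    · intro h5
      rcases eq_or_ng (b := ((i, true) : Fin (n + 2) × Bool)) h5 with h6 | h6
      · exact h1 h6
      · exact h3 h6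
    · intro h5
      rcases eq_or_ng h5 with h6 | h6
      · exact h4 h6
      · exact h2 h6

theorem pairing_eq (i : Fin (n + 2)) {x : Fin (n + 2) → ℤ} {a b : Fin (n + 2) × Bool} (e : ee x = wt a + wt b) :
    pairing (A n) i x = Cf i (wt a) + Cf i (wt b) := by
  rw [← Cf_ee, e, Cf_add]

variable {Fr} in
theorem data_D [Finite G] (hH : Hyp Fr) : Data cs (isCartan n) (eD Fr) := by
  have ho := orth2_of_hyp hH
  have h0 := hH.adm
  refine Data.mk' ho.two ?_ ?_ ?_ ?_ ?_ ?_ ?_ ?_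
  · intro x hx t u
    obtain ⟨a, b, hab, e⟩ := exists_of_isRoot cs hx
    rw [TypeD.eD_eq hH hab e, TypeD.eD_eq hH hab e, TypeD.eD_eq hH hab e, Fr.X_add]
  · intro x hx t ht
    obtain ⟨a, b, hab, e⟩ := exists_of_isRoot cs hx
    rw [TypeD.eD_eq hH hab e] at ht
    exact X_eq_one hab ht
  · intro i x hx t
    obtain ⟨a, b, hab, e⟩ := exists_of_isRoot cs hx
    rw [nel, nc_eD hH, TypeD.eD_eq hH hab e, rep_simple, TypeD.eD_eq hH (hab.sg i) (ee_refl_of e),
      conj_X' Fr ho (isIso_nX Fr _ _ _) hab (hab.sg i) (nX_sr Fr ho i one_ne_zero a) (nX_sr Fr ho i one_ne_zero b),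
      one_zpow, one_zpow, one_mul, one_mul]
  · intro i x hx c hc t
    obtain ⟨a, b, hab, e⟩ := exists_of_isRoot cs hx
    rw [hel, nel, nc_eD hH, nc_eD hH, TypeD.eD_eq hH hab e, TypeD.eD_eq hH hab e,
      conj_X' Fr ho (HForm.IsIso.mul H (isIso_nX Fr _ _ _) (isIso_nX Fr _ _ _)) hab hab (hX_sr Fr ho i hc a)
        (hX_sr Fr ho i hc b), pairing_eq i e, zpow_add₀ hc]
  · intro x i hx _ _
    obtain ⟨a, b, hab, e⟩ := exists_of_isRoot cs hx
    rw [pairing_eq i e]
    rcases Cf_cases i a with h1 | h1 | h1 <;> rcases Cf_cases i b with h2 | h2 | h2 <;>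
      rw [h1.1, h2.1] <;> norm_num
  · intro x i hx hne hne' hc t u
    obtain ⟨a, b, hab, e⟩ := exists_of_isRoot cs hx
    rw [pairing_eq i e] at hc
    rw [commutatorElement_eq_one_iff_commute, TypeD.eD_eq hH hab e, TypeD.eD_eq hH (ok_nx i) (ee_sr i)]
    -- a symmetric statement
    have key : ∀ a b : Fin (n + 2) × Bool, Ok a b → 0 ≤ Cf i (wt a) + Cf i (wt b) → Cf i (wt a) = -1 →
        Commute (Fr.X a b t) (Fr.X (i, true) (nx i) u) := by
      intro a b hab hc h1
      rcases Cf_cases i a with h3 | h3 | h3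
      · rw [h3.1] at h1; norm_num at h1
      · rcases Cf_cases i b with h2 | h2 | h2
        · rcases h3.2 with h4 | h4 <;> rcases h2.2 with h5 | h5
          · exfalso
            subst h4; subst h5
            exact hab rfl
          · subst h4; subst h5
            rw [X_swap' Fr ho hab, X_swap' Fr ho (ok_nx i)]
            exact comm_p Fr ho h0 (ok_nx i).symm t u
          · subst h4; subst h5
            rw [X_swap' Fr ho hab]
            exact comm_p Fr ho h0 (ok_nx i) t u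
          · exfalso
            subst h4; subst h5
            exact hab rfl
        · rw [h3.1, h2.1] at hc; norm_num at hc
        · rw [h3.1, h2.1] at hc; norm_num at hc
      · rw [h3.1] at h1; norm_num at h1
    by_cases h1 : Cf i (wt a) = -1
    · exact key a b hab hc h1
    by_cases h2 : Cf i (wt b) = -1
    · rw [X_swap' Fr ho hab]
      exact key b a hab.symm (by rwa [add_comm]) h2
    have h3 : ∀ z : Fin (n + 2) × Bool, Cf i (wt z) ≠ -1 → (i, true) ≠ neg z ∧ nx i ≠ neg z := by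
      intro z hz
      constructor
      · intro h4
        apply hz
        have h5 : z = ng (i, true) := by rw [h4]; exact (ng_ng z).symm
        rcases Cf_cases i z with h6 | h6 | h6
        · rcases h6.2 with h7 | h7
          · rw [h5] at h7; simp [ng] at h7
          · rw [h5] at h7
            exact absurd (congrArg Prod.fst h7) (ok_nx i)
        · exact h6.1
        · rw [h5] at h6; exact absurd rfl h6.2.1
      · intro h4
        apply hz
        have h5 : z = ng (nx i) := by rw [h4]; exact (ng_ng z).symm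
        rcases Cf_cases i z with h6 | h6 | h6
        · rcases h6.2 with h7 | h7
          · rw [h5] at h7
            exact absurd (congrArg Prod.fst h7).symm (ok_nx i)
          · rw [h5] at h7
            exact absurd h7.symm (by obtain ⟨j, s⟩ := nx i; cases s <;> simp [ng])
        · exact h6.1
        · rw [h5] at h6; exact absurd rfl h6.2.2
    exact Fr.commute_XX (h3 a h1).1 (h3 b h2).1 (h3 a h1).2 (h3 b h2).2 t u
  · intro x i hx hp _ t u
    obtain ⟨a, b, hab, e⟩ := exists_of_isRoot cs hx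
    rw [pairing_eq i e] at hp
    have key : ∀ a b : Fin (n + 2) × Bool, Ok a b → ee x = wt a + wt b → Cf i (wt a) = -1 → Cf i (wt b) = 0 →
        ⁅eD Fr x t, eD Fr (sr i) u⁆ = eD Fr (x + sr i) (t * u) := by
      intro a b hab e h1 h2
      have hb : b.1 ≠ i ∧ b.1 ≠ (nx i).1 := by
        rcases Cf_cases i b with h3 | h3 | h3
        · rw [h3.1] at h2; norm_num at h2
        · rw [h3.1] at h2; norm_num at h2
        · exact h3.2
      have ha : a = ng (i, true) ∨ a = ng (nx i) := by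
        rcases Cf_cases i a with h3 | h3 | h3
        · rw [h3.1] at h1; norm_num at h1
        · exact h3.2
        · rw [h3.1] at h1; norm_num at h1
      rcases ha with rfl | rfl
      · have e1 : ee (x + sr i) = wt b + wt (nx i) := by
          rw [ee_add, e, ee_sr, bt, wt_ng]; abel
        have hok : Ok b (nx i) := hb.2
        rw [TypeD.eD_eq hH hok e1, TypeD.eD_eq hH hab e, TypeD.eD_eq hH (ok_nx i) (ee_sr i), X_swap' Fr ho hab]
        have := bracket Fr (x := b) (y := ng (i, true)) (z := nx i) hb.1 (ok_nx i) hb.2 t u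
        rwa [ng_ng] at this
      · have e1 : ee (x + sr i) = wt b + wt (i, true) := by
          rw [ee_add, e, ee_sr, bt, wt_ng]; abel
        have hok : Ok b (i, true) := hb.1
        rw [TypeD.eD_eq hH hok e1, TypeD.eD_eq hH hab e, TypeD.eD_eq hH (ok_nx i) (ee_sr i), X_swap' Fr ho hab,
          X_swap' Fr ho (ok_nx i)]
        have := bracket Fr (x := b) (y := ng (nx i)) (z := (i, true)) hb.2 (ok_nx i).symm hb.1 t u
        rwa [ng_ng] at this
    rcases Cf_cases i a with h1 | h1 | h1 <;> rcases Cf_cases i b with h2 | h2 | h2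
    · rw [h1.1, h2.1] at hp; norm_num at hp
    · rw [h1.1, h2.1] at hp; norm_num at hp
    · rw [h1.1, h2.1] at hp; norm_num at hp
    · rw [h1.1, h2.1] at hp; norm_num at hp
    · rw [h1.1, h2.1] at hp; norm_num at hp
    · exact key a b hab e h1.1 h2.1
    · rw [h1.1, h2.1] at hp; norm_num at hp
    · exact key b a hab.symm (e.trans (add_comm _ _)) h2.1 h1.1
    · rw [h1.1, h2.1] at hp; norm_num at hp
  · intro x i hx hp hp' t u
    exfalso
    obtain ⟨a, b, hab, e⟩ := exists_of_isRoot cs hx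
    rw [pairing_eq i e] at hp
    have h1 : x = -sr i := by
      apply ee_injective
      rw [e, ee_neg_sr]
      rcases Cf_cases i a with h1 | h1 | h1 <;> rcases Cf_cases i b with h2 | h2 | h2 <;>
        rw [h1.1, h2.1] at hp <;> norm_num at hp
      rcases h1.2 with h3 | h3 <;> rcases h2.2 with h4 | h4
      · subst h3; subst h4; exact absurd rfl hab
      · rw [h3, h4]
      · rw [h3, h4]; exact add_comm _ _
      · subst h3; subst h4; exact absurd rfl hab
    subst h1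
    rw [cpr_neg_right cs (isCartan n) _ (isRoot_sr cs _ i), cpr_self cs _ (isRoot_sr cs _ i)] at hp'
    norm_num at hp'

end Cfsg.Agent.KFacts.SLRow.DData

end

-- merged: Cfsg.Agent.KFacts.SLRow.DSys
section

/-!
# `PΩ⁺_{2m}(q)`, `q` even: `ChevTwo.Sys` (K-facts for S1765, D7)

* `data_of_map` : `ChevTwo.Data` lifts along an injective homomorphism;
* `data_E`, `data_K` : the root elements `eE` of `E Q` and their images;
* `exists_chi` : the character of an element of the torus;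
* `sys_D` : `Sys (rgdD_model ..)`, `sys_OPlus`.
-/

set_option autoImplicit false
set_option linter.unusedSectionVars false

namespace Cfsg.Agent.KFacts.SLRow.DSys

open Cfsg
open CoxeterSystem Cfsg.Agent.ChevalleyStructure.CoxeterGeom Cfsg.Agent.Tits.Roots Cfsg.Agent.Tits.Core
  Cfsg.Agent.Nodes.Reps Cfsg.Agent.Nodes.BNOf Cfsg.Agent.Nodes.RGDLib Cfsg.Agent.KFacts.SLRow.Def
  Cfsg.Agent.Nodes.Coroot Cfsg.Agent.KFacts.ChevTwo Cfsg.Agent.KFacts.SLRow.DData
open Cfsg.Agent.KFacts.SLRow.TypeD (Hyp eD X_eq_one)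
open Cfsg.Agent.Nodes.TypeC (wt ng ng_ng ng_fst wt_ng wt_apply)
open Cfsg.Agent.Nodes.TypeD
open Cfsg.Agent.Nodes.WittRoot (Amb Mono)
open Cfsg.Agent.Nodes.WittRGD (Tor)
open Cfsg.Agent.TitsThree Cfsg.Agent.TitsThree.Siegel Cfsg.Agent.TitsThree.SiegelGen
  Cfsg.Agent.TitsThree.WittFrame Cfsg.Agent.TitsThree.WittWeyl Cfsg.Agent.TitsThree.WBridge
open Cfsg.Agent.LieClassical Cfsg.Agent.LieClassical.OrthCore Cfsg.Agent.LieClassical.OrthTrans
open Cfsg.Agent.LieClassical.OrthSimple Cfsg.Agent.LieClassical.OrthFinite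
open Cfsg.Agent.LieClassical.OrthForms
open Cfsg.Agent.TitsThree.KSideO Cfsg.Agent.TitsThree.StdData Cfsg.Agent.Nodes.WittInst
  Cfsg.Agent.KFacts.SLRow.OPlus
open scoped commutatorElement

section lift

variable {I W Y Y' K : Type*} [Fintype I] [DecidableEq I] [Group W] [Group Y] [Group Y'] [Field K]
  {M : CoxeterMatrix I} {cs : CoxeterSystem M W} {A : I → I → ℤ} {h : IsCartan M A} {e : (I → ℤ) → K → Y}

/-- Lifting along an injective homomorphism. -/
theorem data_of_map (f : Y →* Y') (hf : Function.Injective f) (D : Data cs h (fun x t => f (e x t))) :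
    Data cs h e := by
  have hn : ∀ x c, nc (fun x t => f (e x t)) x c = f (nc e x c) := fun x c => by
    rw [nc_def, nc_def, map_mul, map_mul]
  have hnel : ∀ x, nel (fun x t => f (e x t)) x = f (nel e x) := fun x => hn x 1
  have hh : ∀ x c, hel (fun x t => f (e x t)) x c = f (hel e x c) := fun x c => by
    rw [hel_def, hel_def, map_mul, hn, hnel]
  refine ⟨D.two, ?_, ?_, ?_, ?_, D.lace, ?_, ?_, ?_⟩
  · intro x hx t u
    apply hf
    rw [map_mul]
    exact D.add x hx t u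
  · intro x hx t ht
    exact D.inj x hx t (by show f _ = 1; rw [ht, map_one])
  · intro i x hx t
    apply hf
    rw [map_mul, map_mul, map_inv, ← hnel]
    exact D.refl i x hx t
  · intro i x hx c hc t
    apply hf
    rw [map_mul, map_mul, map_inv, ← hh]
    exact D.tor i x hx c hc t
  · intro x y hx hy h1 h2 h3 t u
    apply hf
    rw [map_commutatorElement, map_one]
    exact D.comm0 x y hx hy h1 h2 h3 t u
  · intro x y hx hy h1 h2 t u
    apply hf
    rw [map_commutatorElement]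
    exact D.comm1 x y hx hy h1 h2 t u
  · intro x y hx hy h1 h2 t u
    apply hf
    rw [map_commutatorElement, map_mul]
    exact D.comm2 x y hx hy h1 h2 t u

end lift

/-! ### The character of an element of the torus -/

section Chi

variable {F V : Type*} [Field F] [AddCommGroup V] [Module F V] {H : HForm F V} {n : ℕ} {Fr : Frame H (Fin (n + 2))}
  {G : Type*} [Group G] (cs : CoxeterSystem (M n) G)

theorem exists_chi (hH : _root_.Cfsg.Agent.KFacts.SLRow.TypeD.Hyp Fr) {t : V ≃ₗ[F] V} (hI : H.IsIso t) (hm : Mono Fr t id) :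
    ∃ χ : (Fin (n + 2) → ℤ) →+ Additive Fˣ, ∀ x, IsRoot cs (isCartan n) x → ∀ u : F,
      t * eD Fr x u * t⁻¹ = eD Fr x (((χ x).toMul : Fˣ) * u) := by
  have ho := orth2_of_hyp hH
  choose l hl0 hl using hm
  -- the scalars of opposite vectors are inverse
  have hinv : ∀ z, l z * l (ng z) = 1 := by
    intro z
    have h1 := hI (Fr.b z) (Fr.b (neg z))
    have h2 : t (Fr.b z) = l z • Fr.b z := hl z
    have h3 : t (Fr.b (neg z)) = l (ng z) • Fr.b (neg z) := hl (ng z)
    rw [h2, h3, H.smul_left, H.smul_right, Fr.hb_self_neg, η_eq Fr ho, mul_one, hH.sig] at h1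
    exact h1
  let v : Fin (n + 2) → Fˣ := fun k => Units.mk0 (l (k, true)) (hl0 _)
  let χ : (Fin (n + 2) → ℤ) →+ Additive Fˣ :=
    { toFun := fun x => ∑ k, ee x k • Additive.ofMul (v k)
      map_zero' := Finset.sum_eq_zero fun k _ => by
        have h1 : ee (0 : Fin (n + 2) → ℤ) = 0 := by
          have := ee_smul (n := n) 0 0
          rwa [zero_smul, zero_smul] at this
        rw [h1, Pi.zero_apply, zero_smul]
      map_add' := fun x y => by
        rw [← Finset.sum_add_distrib]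
        exact Finset.sum_congr rfl fun k _ => by rw [ee_add, Pi.add_apply]; exact add_zsmul _ _ _ }
  have hwt : ∀ a : Fin (n + 2) × Bool, ((∑ k, wt a k • Additive.ofMul (v k)).toMul : Fˣ) = l a := by
    intro a
    rw [Finset.sum_eq_single a.1]
    · obtain ⟨k, s⟩ := a
      rw [wt_apply, if_pos rfl]
      cases s
      · have h1 := hinv (k, true)
        rw [if_neg Bool.false_ne_true, neg_smul, one_smul, toMul_neg, toMul_ofMul, Units.val_inv_eq_inv_val]
        exact (eq_inv_of_mul_eq_one_right h1).symm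
      · rw [if_pos rfl, one_smul, toMul_ofMul]
        rfl
    · intro k _ hk
      rw [wt_apply, if_neg hk, zero_smul]
    · intro hk; exact absurd (Finset.mem_univ _) hk
  refine ⟨χ, fun x hx u => ?_⟩
  obtain ⟨a, b, hab, e⟩ := exists_of_isRoot cs hx
  have h1 : ((χ x).toMul : Fˣ) = l a * l b := by
    show (((∑ k, ee x k • Additive.ofMul (v k)).toMul : Fˣ) : F) = _
    rw [e]
    have h2 : ∑ k, (wt a + wt b) k • Additive.ofMul (v k) =
        ∑ k, wt a k • Additive.ofMul (v k) + ∑ k, wt b k • Additive.ofMul (v k) := by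
      rw [← Finset.sum_add_distrib]
      exact Finset.sum_congr rfl fun k _ => add_zsmul _ _ _
    rw [h2, toMul_add, Units.val_mul, hwt, hwt]
  rw [TypeD.eD_eq hH hab e, TypeD.eD_eq hH hab e, conj_X' Fr ho hI hab hab (hl a) (hl b), h1]

end Chi

/-! ### `PΩ` -/

section POm

variable {ι : Type} [Fintype ι] [DecidableEq ι] {F : Type*} [Field F] {Q : QuadraticForm F (ι → F)}
  {n : ℕ} {W : WFrame (PO Q) (n + 2)} {C : Type*} [Group C] (cs : CoxeterSystem (M n) C) (h2 : (2 : F) = 0)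
  (h0 : ∀ p : (toFrame W).Adm, p = 1)

include h2 h0

theorem data_E [Finite C] : Data cs (isCartan n) (eE W) :=
  data_of_map (E Q).subtype Subtype.val_injective ((data_D cs (hyp W h2 h0) :))

variable {K : Type*} [Group K] (φ : ↥(E Q) →* K)

theorem data_K [Finite C] (hφ : φ.ker ≤ Subgroup.center ↥(E Q)) (hn : 1 ≤ n) :
    Data cs (isCartan n) (fun x t => φ (eE W x t)) := by
  refine TypeA.data_map (data_E cs h2 h0) φ fun x hx t ht => ?_
  have h3 := inj_K cs h2 h0 φ hφ hn hx ht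
  subst h3
  exact (data_E cs h2 h0).zero hx

omit cs in
theorem nel_eE (i : Fin (n + 2)) :
    ((nel (eE W) (sr i) : ↥(E Q)) : (ι → F) ≃ₗ[F] (ι → F)) = Cfsg.Agent.Nodes.WittRGDD.nn (toFrame W) i := by
  have h1 : ((nel (eE W) (sr i) : ↥(E Q)) : (ι → F) ≃ₗ[F] (ι → F)) = nel (eD (toFrame W)) (sr i) := by
    rw [nel_def, nel_def, Subgroup.coe_mul, Subgroup.coe_mul]
    rfl
  rw [h1]
  exact nc_eD (hyp W h2 h0) i 1

/-- **`ChevTwo.Sys` of `PΩ` of a hyperbolic form, characteristic two.** -/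
theorem sys_D [Finite F] [Finite C] (hG : _root_.Cfsg.Agent.LieClassical.OrthTrans.Good Q) (hA : Amb (toFrame W) (E Q)) [Fact (Nat.Prime 2)] [CharP F 2]
    (hn : 1 ≤ n) : Sys (rgdD_model W hG hA h0 (p := 2) cs) (fun x t => toPOmega hG (eE W x t)) where
  data := data_K cs h2 h0 (toPOmega hG) (ker_toPOmega hG) hn
  mem_X x hx g := by
    rw [mem_XD cs h2 h0 (toPOmega hG) hx]
    exact ⟨fun ⟨t, ht⟩ => ⟨t, ht.symm⟩, fun ⟨t, ht⟩ => ⟨t, ht.symm⟩⟩
  n_eq i := by
    have h1 : nel (fun x t => toPOmega hG (eE W x t)) (sr i) = toPOmega hG (nel (eE W) (sr i)) := by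
      rw [nel_def, nel_def, map_mul, map_mul]
    rw [h1]
    exact congrArg (toPOmega hG) (Subtype.ext (nel_eE h2 h0 i).symm)
  chi := by
    rintro _ ⟨⟨t, htE⟩, ht, rfl⟩
    have ht' : t ∈ Tor (toFrame W) (E Q) := Subgroup.mem_subgroupOf.1 ht
    obtain ⟨χ, hχ⟩ := exists_chi cs (hyp W h2 h0) (hA.iso t htE) ht'.2
    refine ⟨χ, fun x hx u => ?_⟩
    rw [← map_mul, ← map_inv, ← map_mul]
    refine congrArg (toPOmega hG) ?_
    exact Subtype.ext (hχ x hx u)

omit h2 h0 in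
/-- **`PΩ⁺_{2m}(q)`, `m = n + 2 ≥ 3`, `q` even.** -/
theorem sys_OPlus {C : Type*} [Group C] [Finite C] (F : Type*) [Field F] [Finite F] [Fact (Nat.Prime 2)] [CharP F 2]
    {n : ℕ} (hn : 1 ≤ n) (cs : CoxeterSystem (M n) C) :
    Sys (rgdD_model (wplus (n + 2) F) (good_plus hn F) (amb_plus _) (adm_plus _) (p := 2) cs)
      (fun x t => toPOmega (good_plus hn F) (eE (wplus (n + 2) F) x t)) :=
  sys_D cs (CharTwo.two_eq_zero) (adm_plus (n + 2)) (good_plus hn F) (amb_plus (n + 2)) hn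

end POm

end Cfsg.Agent.KFacts.SLRow.DSys

end
end

-- part: KFacts/SLRow/Row
section
/-!
# The simply laced rows of node D7: `K` with datum and coordinates (K-facts for S1765)

* `IsSLC q M K` : `K` has a simply laced datum (`Datum ⊤ q`) of diagram `M` with root elements (`ChevTwo.Sys`) over a
  finite field of characteristic two with `q` elements;
* `IsSLC.of_equiv` : transport;
* `row_L`, `row_OPlus`, `row_E6`, `row_E7`, `row_E8` : the families of `D7/Cases.lean`.
-/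

set_option autoImplicit false
set_option linter.unusedSectionVars false

namespace Cfsg.Agent.KFacts.SLRow.Row

open Cfsg
open CoxeterSystem Cfsg.Agent.ChevalleyStructure.CoxeterGeom Cfsg.Agent.Tits.Roots Cfsg.Agent.Tits.Core
  Cfsg.Agent.Nodes.Reps Cfsg.Agent.Nodes.BNOf Cfsg.Agent.Nodes.RGDLib Cfsg.Agent.KFacts.SLRow.Def
  Cfsg.Agent.KFacts.ChevTwo Cfsg.Agent.KFacts.SLRow.Diag Cfsg.Agent.OddHalf.D7.Cases

universe u v w

section map

variable {I W Y Y' F : Type*} [Fintype I] [DecidableEq I] [Group W] [Group Y] [Group Y'] [Field F]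
  {M : CoxeterMatrix I} {cs : CoxeterSystem M W} {A : I → I → ℤ} {h : IsCartan M A} {p : ℕ} {T : Subgroup Y}
  {n : I → Y} {X : (I → ℤ) → Subgroup Y} {e : (I → ℤ) → F → Y}

/-- The image of the coordinates. -/
theorem sys_map {R : RGD cs h p T n X} (S : Sys R e) (f : Y →* Y') (hf : Function.Injective f)
    (R' : RGD cs h p (T.map f) (fun i => f (n i)) (fun x => (X x).map f)) : Sys R' (fun x t => f (e x t)) where
  data := TypeA.data_map S.data f fun x _ t ht => hf (by rw [ht, map_one])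
  mem_X x hx g := by
    constructor
    · rintro ⟨y, hy, rfl⟩
      obtain ⟨t, rfl⟩ := (S.mem_X x hx y).1 hy
      exact ⟨t, rfl⟩
    · rintro ⟨t, rfl⟩
      exact ⟨_, (S.mem_X x hx _).2 ⟨t, rfl⟩, rfl⟩
  n_eq i := by
    show f (n i) = _
    rw [nel_def, S.n_eq, nel_def, map_mul, map_mul]
  chi := by
    rintro _ ⟨t, ht, rfl⟩
    obtain ⟨χ, hχ⟩ := S.chi t ht
    exact ⟨χ, fun x hx u => by rw [← map_mul, ← map_inv, ← map_mul, hχ x hx]⟩

end map

/-- `K'` has a simply laced datum of diagram `M` with coordinates over a field of characteristic two with `q`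
elements. -/
def IsSLC (q : ℕ) {l : ℕ} (M : CoxeterMatrix (Fin l)) (K' : Type v) [Group K'] : Prop :=
  ∃ (A : Fin l → Fin l → ℤ) (h : IsCartan M A) (T : Subgroup K') (n : Fin l → K')
    (X : (Fin l → ℤ) → Subgroup K') (F : Type) (_ : Field F) (_ : Finite F) (_ : CharP F 2)
    (e : (Fin l → ℤ) → F → K'), Finite M.Group ∧ Nat.card F = q ∧ DTwo M ∧
      ∃ D : Datum ⊤ q M.toCoxeterSystem h T n X, Sys D.rgd e

theorem IsSLC.of_equiv {q l : ℕ} {M : CoxeterMatrix (Fin l)} {K' : Type v} [Group K'] {K'' : Type w} [Group K'']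
    (hK : IsSLC q M K') (f : K' ≃* K'') : IsSLC q M K'' := by
  obtain ⟨A, h, T, n, X, F, _, _, _, e, hW, hq, hM, D, S⟩ := hK
  have D' := D.map f.toMonoidHom f.injective
  have h1 : (⊤ : Subgroup K').map f.toMonoidHom = ⊤ := Subgroup.map_top_of_surjective _ f.surjective
  rw [h1] at D'
  exact ⟨A, h, _, _, _, F, inferInstance, inferInstance, inferInstance, _, hW, hq, hM, D',
    sys_map S f.toMonoidHom f.injective D'.rgd⟩

/-! ### The groups -/

open Cfsg.Agent.LieRecognition.BNCox (cA) in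
theorem isSLC_PSL {n : ℕ} (hn : 3 ≤ n) (F : Type) [Field F] [Finite F] [CharP F 2] :
    IsSLC (Nat.card F) (cA n) (Matrix.ProjectiveSpecialLinearGroup (Fin (n + 1)) F) := by
  have : Fact (Nat.Prime 2) := ⟨Nat.prime_two⟩
  have h2 : ∀ t : F, t + t = 0 := CharTwo.add_self_eq_zero
  have hW : Finite (cA n).Group := Cfsg.Agent.Nodes.RootsA.finite_W (cA n).toCoxeterSystem
    (Cfsg.Agent.Nodes.RootsA.isCartan n)
  refine ⟨_, Cfsg.Agent.Nodes.RootsA.isCartan n, _, _, _, F, inferInstance, inferInstance, inferInstance, _, hW, rfl,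
    dTwo_A n, ?_, SysA.sys_PSL (cA n).toCoxeterSystem (Cfsg.Agent.Nodes.RootsA.isCartan n)⟩
  exact ⟨Cfsg.Agent.Nodes.RGDTypeA.rgd_psl (F := F) (cA n).toCoxeterSystem (Cfsg.Agent.Nodes.RootsA.isCartan n), le_top,
    Cfsg.Agent.Nodes.RGDTypeA.G1_psl_eq_top _ _, Psl.noCent h2 _ _, Psl.conn_cA, by simpa only [_root_.Fintype.card_fin] using hn,
    fun i j => (Psl.cA_ne i j).1, fun i j => (Psl.cA_ne i j).2, fun x hx => Psl.card_X h2 _ _ hx⟩

open Cfsg.Agent.Nodes.TypeD Cfsg.Agent.Nodes.WittInst Cfsg.Agent.KFacts.SLRow.OPlus Cfsg.Agent.TitsThree.KSideO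
  Cfsg.Agent.LieClassical.OrthForms in
theorem isSLC_OPlus {n : ℕ} (hn : 2 ≤ n) (F : Type) [Field F] [Finite F] [CharP F 2] :
    IsSLC (Nat.card F) (M n) (POmega F (quadFormPlus (n + 2) F)) := by
  have : Fact (Nat.Prime 2) := ⟨Nat.prime_two⟩
  have hn1 : 1 ≤ n := by omega
  have hW : Finite (M n).Group := finite_W (M n).toCoxeterSystem
  rw [← coe_plusForm]
  have hG := good_plus hn1 F
  refine ⟨A n, isCartan n, _, _, _, F, inferInstance, inferInstance, inferInstance, _, hW, rfl, dTwo_D hn, ?_,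
    DSys.sys_OPlus F hn1 (M n).toCoxeterSystem⟩
  exact ⟨rgdD_model (wplus (n + 2) F) (good_plus hn1 F) (amb_plus _) (adm_plus _) _, le_top,
    G1D_eq_top (wplus (n + 2) F) (toPOmega hG) (toPOmega_surjective hG) (adm_plus _) _,
    OmegaPlus.noCent_of_center (G1D_eq_top (wplus (n + 2) F) (toPOmega hG) (toPOmega_surjective hG) (adm_plus _) _)
      (OmegaPlus.center_eq_bot F (by omega)),
    OmegaPlus.conn_M n hn1, by simpa using hn1, fun i j => (OmegaPlus.M_ne n i j).1,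
    fun i j => (OmegaPlus.M_ne n i j).2, fun x hx => OmegaPlus.card_XD (wplus (n + 2) F) hG _ hx⟩

section Chev

open Cfsg.Agent.ChevalleyStructure Cfsg.Agent.ChevalleyStructure.CoxeterGeomTypes Cfsg.Lie Cfsg.Agent.Nodes.RGDChev

theorem noCent_group {D : ChevalleyDatum} {l : ℕ} {M : CoxeterMatrix (Fin l)} (hp : IsType D l M)
    (hD : D ∈ [chevD4, chevF4, chevE6, chevE7, chevE8]) (K : Type) [Field K] [Finite K] {W : Type*} [Group W]
    (cs : CoxeterSystem M W) {T : Subgroup ↥(D.group K)} :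
    RgdCent.NoCent cs hp.isCartan T (fun x => (XV D l K x).subgroupOf (D.group K)) := by
  refine OmegaPlus.noCent_of_center (G1_eq_top hp _) ?_
  obtain ⟨hs, hna⟩ := Cfsg.Agent.S1054.result (F := K) D hD
  rcases (inferInstance : (Subgroup.center ↥(D.group K)).Normal).eq_bot_or_eq_top with h | h
  · exact h
  · exfalso
    apply hna
    refine ⟨⟨fun a b => ?_⟩⟩
    have : b ∈ Subgroup.center ↥(D.group K) := by rw [h]; exact Subgroup.mem_top b
    rw [Subgroup.mem_center_iff] at this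
    exact this a

theorem isSLC_group {D : ChevalleyDatum} {l : ℕ} {M : CoxeterMatrix (Fin l)} (hp : IsType D l M)
    (hD : D ∈ [chevD4, chevF4, chevE6, chevE7, chevE8])
    (h4 : ∀ i j, M i j ≠ 4) (h6 : ∀ i j, M i j ≠ 6) (hc : Conn M) (h3 : 3 ≤ l) (hM : DTwo M)
    (hOK : ChevTwoInst.TwoOK D) (K : Type) [Field K] [Finite K] [CharP K 2] : IsSLC (Nat.card K) M ↥(D.group K) := by
  have : Fact (Nat.Prime 2) := ⟨Nat.prime_two⟩
  have hW : Finite M.Group := finite_W hp M.toCoxeterSystem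
  refine ⟨cartanOf D l, hp.isCartan, _, _, _, K, inferInstance, inferInstance, inferInstance, _, hW, rfl, hM, ?_,
    ChevTwoInst.sys hp hOK M.toCoxeterSystem⟩
  exact ⟨rgd (K := K) hp M.toCoxeterSystem 2, le_top, G1_eq_top hp _, noCent_group hp hD K _, hc, by simpa only [_root_.Fintype.card_fin] using h3, h4, h6,
    fun x hx => Chev.card_XV hp K _ hx⟩

theorem isSLC_E6 (K : Type) [Field K] [Finite K] [CharP K 2] :
    IsSLC (Nat.card K) CoxeterMatrix.E₆ ↥(chevE6.group K) :=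
  isSLC_group (by simp [IsType, typeList]) (by simp) (by intro i; fin_cases i <;> decide)
    (by intro i; fin_cases i <;> decide)
    (conn_of_parent ![0, 3, 1, 2, 3, 4] ![0, 3, 0, 2, 3, 4] (by decide) (by decide) (by decide)) (by norm_num)
    dTwo_E6 ChevTwoInst.twoOK_E6 K

theorem isSLC_E7 (K : Type) [Field K] [Finite K] [CharP K 2] :
    IsSLC (Nat.card K) CoxeterMatrix.E₇ ↥(chevE7.group K) :=
  isSLC_group (by simp [IsType, typeList]) (by simp) (by intro i; fin_cases i <;> decide)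
    (by intro i; fin_cases i <;> decide)
    (conn_of_parent ![0, 3, 1, 2, 3, 4, 5] ![0, 3, 0, 2, 3, 4, 5] (by decide) (by decide) (by decide)) (by norm_num)
    dTwo_E7 ChevTwoInst.twoOK_E7 K

theorem isSLC_E8 (K : Type) [Field K] [Finite K] [CharP K 2] :
    IsSLC (Nat.card K) CoxeterMatrix.E₈ ↥(chevE8.group K) :=
  isSLC_group (by simp [IsType, typeList]) (by simp) (by intro i; fin_cases i <;> decide)
    (by intro i; fin_cases i <;> decide)
    (conn_of_parent ![0, 3, 1, 2, 3, 4, 5, 6] ![0, 3, 0, 2, 3, 4, 5, 6] (by decide) (by decide) (by decide))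
    (by norm_num) dTwo_E8 ChevTwoInst.twoOK_E8 K

end Chev

/-! ### The families -/

theorem charTwo_of_card {F : Type*} [Field F] [Fintype F] {a : ℕ} (h : Fintype.card F = 2 ^ a) :
    CharP F 2 := by
  obtain ⟨n, hp, hn⟩ := FiniteField.card F (ringChar F)
  have h1 : ringChar F ∣ 2 ^ a := by
    rw [← h, hn]
    exact dvd_pow_self _ n.2.ne'
  have h2 : ringChar F = 2 := (Nat.prime_dvd_prime_iff_eq hp Nat.prime_two).1 (hp.dvd_of_dvd_pow h1)
  have h3 : CharP F (ringChar F) := inferInstance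
  rwa [h2] at h3

open Cfsg.Agent.LieRecognition.BNCox (cA) in
/-- `L_n(q)`: the diagram has rank `n - 1 ≥ 3`, and rank `≥ 4` for `q = 2`. -/
theorem row_L {K' : Type u} [Group K'] (hK : FamL K') :
    ∃ q n a : ℕ, q = 2 ^ a ∧ 1 ≤ a ∧ 3 ≤ n ∧ (n = 3 → 2 ≤ a) ∧ IsSLC q (cA n) K' := by
  obtain ⟨F, _, _, a, m, ha, hF, hm, h4, ⟨e⟩⟩ := hK
  have := charTwo_of_card hF
  obtain ⟨n, rfl⟩ : ∃ n, m = n + 1 := ⟨m - 1, by omega⟩
  refine ⟨Nat.card F, n, a, by rw [Nat.card_eq_fintype_card, hF], ha, by omega, fun h => h4 (by omega), ?_⟩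
  exact (isSLC_PSL (by omega) F).of_equiv e.symm

/-- `O⁺_{2m}(q)`: the diagram has rank `n + 2 ≥ 4`, and rank `≥ 5` for `q = 2`. -/
theorem row_OPlus {K' : Type u} [Group K'] (hK : FamOPlus' K') :
    ∃ q n a : ℕ, q = 2 ^ a ∧ 1 ≤ a ∧ 2 ≤ n ∧ (n = 2 → 2 ≤ a) ∧ IsSLC q (Cfsg.Agent.Nodes.TypeD.M n) K' := by
  obtain ⟨F, _, _, a, m, ha, hF, hm, h4, ⟨e⟩⟩ := hK
  have := charTwo_of_card hF
  obtain ⟨n, rfl⟩ : ∃ n, m = n + 2 := ⟨m - 2, by omega⟩
  refine ⟨Nat.card F, n, a, by rw [Nat.card_eq_fintype_card, hF], ha, by omega, fun h => h4 (by omega), ?_⟩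
  exact (isSLC_OPlus (by omega) F).of_equiv e.symm

theorem row_E6 {K' : Type u} [Group K'] (hK : FamE6 K') :
    ∃ q a : ℕ, q = 2 ^ a ∧ 1 ≤ a ∧ IsSLC q CoxeterMatrix.E₆ K' := by
  obtain ⟨F, _, _, a, ha, hF, ⟨e⟩⟩ := hK
  have := charTwo_of_card hF
  exact ⟨Nat.card F, a, by rw [Nat.card_eq_fintype_card, hF], ha, (isSLC_E6 F).of_equiv e.symm⟩

theorem row_E7 {K' : Type u} [Group K'] (hK : FamE7 K') :
    ∃ q a : ℕ, q = 2 ^ a ∧ 1 ≤ a ∧ IsSLC q CoxeterMatrix.E₇ K' := by
  obtain ⟨F, _, _, a, ha, hF, ⟨e⟩⟩ := hK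
  have := charTwo_of_card hF
  exact ⟨Nat.card F, a, by rw [Nat.card_eq_fintype_card, hF], ha, (isSLC_E7 F).of_equiv e.symm⟩

theorem row_E8 {K' : Type u} [Group K'] (hK : FamE8 K') :
    ∃ q a : ℕ, q = 2 ^ a ∧ 1 ≤ a ∧ IsSLC q CoxeterMatrix.E₈ K' := by
  obtain ⟨F, _, _, a, ha, hF, ⟨e⟩⟩ := hK
  have := charTwo_of_card hF
  exact ⟨Nat.card F, a, by rw [Nat.card_eq_fintype_card, hF], ha, (isSLC_E8 F).of_equiv e.symm⟩

end Cfsg.Agent.KFacts.SLRow.Row
end
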